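import Groth.Agent.Lead.CountHocolim.Build
import Groth.Agent.L29.RelPC.Module

/-!
Sections of perfect objects and of their countable homotopy colimits over affine opens.
-/

set_option autoImplicit false
set_option linter.style.haveILetI false
set_option backward.defeqAttrib.useBackward true
set_option backward.isDefEq.respectTransparency false
set_option backward.isDefEq.respectTransparency.types false

universe u

open CategoryTheory CategoryTheory.Limits CategoryTheory.Pretriangulated AlgebraicGeometry ZeroObject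

attribute [local instance] HasDerivedCategory.standard

noncomputable section

namespace Groth.Lead.CountHocolim

open Groth.L29.DC Groth.L29.DC.Gen Groth.L29.Thick Groth.Lead.CountHom

section General

variable {D D' : Type*} [Category D] [Category D'] [Preadditive D] [HasZeroObject D] [HasShift D ℤ]
  [∀ n : ℤ, (shiftFunctor D n).Additive] [Pretriangulated D] [Preadditive D'] [HasZeroObject D'] [HasShift D' ℤ]
  [∀ n : ℤ, (shiftFunctor D' n).Additive] [Pretriangulated D']

/-- a triangulated functor preserving countable sums preserves homotopy colimits -/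
theorem isHocolim_map (F : D ⥤ D') [F.CommShift ℤ] [F.IsTriangulated] {E : ℕ → D} {f : ∀ n, E n ⟶ E (n + 1)}
    [HasCoproduct E] [HasCoproduct fun n => F.obj (E n)] [PreservesColimit (Discrete.functor E) F]
    {L : D} {l : ∀ n, E n ⟶ L} (h : DerLim.IsHocolim E f L l) :
    DerLim.IsHocolim (fun n => F.obj (E n)) (fun n => F.map (f n)) (F.obj L) (fun n => F.map (l n)) := by
  obtain ⟨c, hT⟩ := h
  let σ := PreservesCoproduct.iso F E
  have hσ : ∀ n, F.map (Sigma.ι E n) ≫ σ.hom = Sigma.ι (fun n => F.obj (E n)) n := fun n => by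
    have h1 : Sigma.ι (fun n => F.obj (E n)) n ≫ σ.inv = F.map (Sigma.ι E n) := by
      simp [σ, PreservesCoproduct.inv_hom]
    rw [← h1, Category.assoc, σ.inv_hom_id, Category.comp_id]
  refine ⟨F.map c ≫ (F.commShiftIso (1 : ℤ)).hom.app _ ≫ σ.hom⟦(1 : ℤ)⟧',
    isomorphic_distinguished _ (F.map_distinguished _ hT) _ ?_⟩
  refine Triangle.isoMk _ _ σ.symm σ.symm (Iso.refl _) ?_ ?_ ?_
  · refine Sigma.hom_ext _ _ fun n => ?_
    have h2 : ∀ k, Sigma.ι (fun n => F.obj (E n)) k ≫ σ.inv = F.map (Sigma.ι E k) := fun k => by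
      simp [σ, PreservesCoproduct.inv_hom]
    have h3 : Sigma.ι (fun n => F.obj (E n)) n ≫ DerLim.shiftMap (fun n => F.obj (E n)) (fun n => F.map (f n)) =
        F.map (f n) ≫ Sigma.ι (fun n => F.obj (E n)) (n + 1) := Sigma.ι_desc _ _
    have h4 : Sigma.ι E n ≫ DerLim.shiftMap E f = f n ≫ Sigma.ι E (n + 1) := Sigma.ι_desc _ _
    change Sigma.ι _ n ≫ (𝟙 _ - DerLim.shiftMap _ _) ≫ σ.inv = Sigma.ι _ n ≫ σ.inv ≫ F.map (𝟙 (∐ E) - DerLim.shiftMap E f)
    rw [Preadditive.sub_comp, Category.id_comp, Preadditive.comp_sub, h2, ← Category.assoc, h3, Category.assoc, h2,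
      ← Category.assoc (Sigma.ι _ n) σ.inv, h2, ← F.map_comp, ← F.map_comp, Preadditive.comp_sub, Category.comp_id,
      F.map_sub, h4]
  · refine Sigma.hom_ext _ _ fun n => ?_
    simp [σ, PreservesCoproduct.inv_hom, ← F.map_comp]
  · simp [← Functor.map_comp]

end General

variable {W : Scheme.{u}} [IsAffine W]

local notation "OW" => DCoh.inD W (Coh.structureModule W)

theorem countable_hom_iff {L : DCoh.D W} (hL : DCoh.IsQCohD L) (n : ℤ) :
    Countable (OW⟦n⟧ ⟶ L) ↔ Countable Γ(DCoh.HD L (-n), ⊤) := by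
  obtain ⟨e⟩ := Cpt.nonempty_free_top (X := W)
  have hcl := TwistGen.cls_injective (isQCohD_shift hL (-n)) (A := (⊤ : W.Opens)) (isAffineOpen_top _)
  let S₀ := DerivedCategory.singleFunctor W.Modules 0
  let ε := ((DerivedCategory.homologyFunctor _ 0).shiftIso (-n) 0 (-n) (by omega)).app L
  let c := (shiftFunctorCompIsoId (DCoh.D W) n (-n) (add_neg_cancel n)).app OW
  let t : (OW⟦n⟧ ⟶ L) → (S₀.obj (QRlim.free W ⊤) ⟶ L⟦-n⟧) := fun φ => S₀.map e.hom ≫ c.inv ≫ φ⟦-n⟧'
  have ht : Function.Bijective t := by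
    refine ⟨fun a b hab => (shiftFunctor _ (-n)).map_injective
      ((cancel_epi c.inv).1 ((cancel_epi (S₀.map e.hom)).1 hab)), fun z => ?_⟩
    obtain ⟨φ, hφ⟩ := (shiftFunctor (DCoh.D W) (-n)).map_surjective (c.hom ≫ S₀.map e.inv ≫ z)
    refine ⟨φ, ?_⟩
    change S₀.map e.hom ≫ c.inv ≫ φ⟦-n⟧' = z
    rw [hφ, c.inv_hom_id_assoc, ← Functor.map_comp_assoc, e.hom_inv_id, CategoryTheory.Functor.map_id, Category.id_comp]
  let q : (OW⟦n⟧ ⟶ L) → Γ(DCoh.HD (L⟦-n⟧) 0, ⊤) := fun φ =>
    Groth.L18.GenLoc.secOf (e.inv ≫ Groth.L10.LocalDetect.cls (t φ))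
  have hq : Function.Bijective q := by
    refine Function.Bijective.comp (g := fun x => Groth.L18.GenLoc.secOf (e.inv ≫ x))
      ⟨fun a b hab => ?_, fun σ => ⟨e.hom ≫ Groth.L16.homOfSection _ σ, ?_⟩⟩ (hcl.comp ht)
    · have h2 := congrArg (Groth.L16.homOfSection _) hab
      simp only [Groth.L18.GenLoc.homOfSection_secOf] at h2
      exact (cancel_epi e.inv).1 h2
    · change Groth.L18.GenLoc.secOf (e.inv ≫ e.hom ≫ _) = σ
      rw [e.inv_hom_id_assoc, Groth.L18.GenLoc.secOf_homOfSection]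
  constructor
  · intro h
    exact countable_of_iso ε ⊤ hq.2.countable
  · intro h
    haveI : Countable Γ(DCoh.HD (L⟦-n⟧) 0, ⊤) := countable_of_iso ε.symm ⊤ h
    exact hq.1.countable

theorem countable_top_inD (h : Countable Γ(W, ⊤)) (j : ℤ) : Countable Γ(DCoh.HD OW j, ⊤) := by
  rcases eq_or_ne j 0 with rfl | hj
  · exact countable_of_iso
      ((DerivedCategory.singleFunctorCompHomologyFunctorIso W.Modules 0).app (Coh.structureModule W)).symm ⊤ h
  · exact countable_of_iso (IsZero.iso (isZero_zero _) (Groth.L29.RelPC.isZero_HD_inD hj)) ⊤ (by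
      haveI : Subsingleton Γ((0 : W.Modules), ⊤) := by
        have h0 : IsZero (0 : W.Modules) := isZero_zero _
        refine subsingleton_of_forall_eq 0 fun x => ?_
        exact congrArg (fun φ : (0 : W.Modules) ⟶ 0 => φ.app ⊤ x) (h0.eq_of_src (𝟙 _) 0)
      infer_instance)

/-- perfect objects have countably many classes from the structure sheaf -/
theorem countable_hom_perfect (h : Countable Γ(W, ⊤)) {E : DCoh.D W} (hE : DCoh.IsPerfect E) (n : ℤ) :
    Countable (OW⟦n⟧ ⟶ E) := by
  have hO : DCoh.IsPerfect OW := Groth.Lead.PCProj.isPerfect_inD (Groth.L16.HomSh.isFinLocFree_unit _)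
  obtain ⟨Y, hY, ⟨r⟩⟩ := exists_retract_of_generator hO (fun F hF h => orth_affine hF h) hE
  suffices hYc : ∀ n : ℤ, Countable (OW⟦n⟧ ⟶ Y) by
    haveI := hYc n
    exact Function.Injective.countable (f := fun φ : OW⟦n⟧ ⟶ E => φ ≫ r.i) fun a b hab => by
      simpa using congrArg (fun x => x ≫ r.r) hab
  clear r hE
  induction hY with
  | gen m =>
    intro n
    refine (countable_hom_iff (isQCohD_shift (PCQCoh.isQCohD_of_perfect hO) m) n).2 ?_
    exact countable_of_iso (((DerivedCategory.homologyFunctor _ 0).shiftIso m (-n) (m + -n) rfl).app OW).symm ⊤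
      (countable_top_inD h _)
  | @zero Z hz =>
    intro n
    haveI : Subsingleton (OW⟦n⟧ ⟶ Z) := ⟨fun a b => hz.eq_of_tgt a b⟩
    infer_instance
  | ext T hT _ _ h₁ h₃ =>
    intro n
    haveI := h₁ n
    haveI := h₃ n
    exact countable_mid (fun z : OW⟦n⟧ ⟶ T.obj₁ => z ≫ T.mor₁) (Preadditive.rightComp (OW⟦n⟧) T.mor₂)
      fun b hb => (Triangle.coyoneda_exact₂ _ hT b hb).imp fun g hg => hg.symm
  | @iso A B e _ hA =>
    intro n
    haveI := hA n
    exact Function.Injective.countable (f := fun φ : OW⟦n⟧ ⟶ B => φ ≫ e.inv) fun a b hab => (cancel_mono e.inv).1 hab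

omit [IsAffine W] in
theorem countable_top_of_opens {X : Scheme.{u}}
    (hX : ∀ U : X.Opens, IsAffineOpen U → Countable (X.presheaf.obj (Opposite.op U))) (j : W ⟶ X) [IsOpenImmersion j]
    (hW : IsAffineOpen (j ''ᵁ ⊤)) : Countable Γ(W, ⊤) := by
  haveI := hX _ hW
  exact Function.Injective.countable (f := (j.appIso ⊤).inv) fun a b hab => by
    simpa using congrArg (j.appIso ⊤).hom hab

/-- perfect objects have countable sections -/
theorem cnt_perfect {X : Scheme.{u}}
    (hX : ∀ U : X.Opens, IsAffineOpen U → Countable (X.presheaf.obj (Opposite.op U)))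
    {E : DCoh.D X} (hE : DCoh.IsPerfect E) : Cnt E := by
  intro W _ j _ i
  have hW := countable_top_of_opens hX j (by
    rw [Scheme.Hom.image_top_eq_opensRange]; exact isAffineOpen_opensRange j)
  have hP := Gen.isPerfect_restrictD j hE
  have h := (countable_hom_iff (PCQCoh.isQCohD_of_perfect hP) (-i)).1 (countable_hom_perfect hW hP (-i))
  rwa [neg_neg] at h

/-- countable homotopy colimits of perfect objects have countable sections -/
theorem cnt_hocolim {X : Scheme.{u}} [CompactSpace X] [QuasiSeparatedSpace X]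
    [HasColimitsOfShape (Discrete ℕ) (DCoh.D X)]
    (hX : ∀ U : X.Opens, IsAffineOpen U → Countable (X.presheaf.obj (Opposite.op U)))
    {E : ℕ → DCoh.D X} {f : ∀ n, E n ⟶ E (n + 1)} {L : DCoh.D X} {l : ∀ n, E n ⟶ L}
    (hE : ∀ n, DCoh.IsPerfect (E n)) (hL : DerLim.IsHocolim E f L l) (hLq : DCoh.IsQCohD L) : Cnt L := by
  intro W _ j _ i
  have hW := countable_top_of_opens hX j (by
    rw [Scheme.Hom.image_top_eq_opensRange]; exact isAffineOpen_opensRange j)
  haveI : PreservesColimitsOfShape (Discrete ℕ) (DCoh.restrictD j) :=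
    (Cpt.restrictRpushAdj j).leftAdjoint_preservesColimits.preservesColimitsOfShape
  haveI : HasCoproducts.{u} (DCoh.D W) := hasCoproducts_D W
  haveI : HasColimitsOfShape (Discrete ℕ) (DCoh.D W) :=
    hasColimitsOfShape_of_equivalence (Discrete.equivalence (Equiv.ulift.{u} : ULift.{u} ℕ ≃ ℕ))
  have hW' := isHocolim_map (DCoh.restrictD j) hL
  have hP : ∀ n, DCoh.IsPerfect ((DCoh.restrictD j).obj (E n)) := fun n => Gen.isPerfect_restrictD j (hE n)
  suffices h : Countable ((DCoh.inD W (Coh.structureModule W))⟦-i⟧ ⟶ (DCoh.restrictD j).obj L) by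
    have := (countable_hom_iff (isQCohD_restrictD j hLq) (-i)).1 h
    rwa [neg_neg] at this
  haveI : ∀ n, Countable ((DCoh.inD W (Coh.structureModule W))⟦-i⟧ ⟶ (DCoh.restrictD j).obj (E n)) := fun n => countable_hom_perfect hW (hP n) (-i)
  have hO : DCoh.IsPerfect (DCoh.inD W (Coh.structureModule W)) := Groth.Lead.PCProj.isPerfect_inD (Groth.L16.HomSh.isFinLocFree_unit _)
  exact Function.Surjective.countable
    (f := fun p : Σ n, (DCoh.inD W (Coh.structureModule W))⟦-i⟧ ⟶ (DCoh.restrictD j).obj (E n) => p.2 ≫ (DCoh.restrictD j).map (l p.1)) fun φ => by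
      obtain ⟨-, N, ψ, h⟩ := factors_stage (perfect_shift hO (-i)) _ _
        (fun n => PCQCoh.isQCohD_of_perfect (hP n)) hW' φ
      exact ⟨⟨N, ψ⟩, h⟩

/-- sections over affine opens -/
theorem sections_of_cnt {X : Scheme.{u}} {K : DCoh.D X} (h : Cnt K) (U : X.Opens) (hU : IsAffineOpen U) (i : ℤ) :
    Countable ((DCoh.HD K i).val.obj (Opposite.op U)) := by
  haveI : IsAffine (U : Scheme.{u}) := hU
  have h1 : Countable Γ((DCoh.HD K i).restrict U.ι, ⊤) :=
    countable_of_iso (HDResIso U.ι K i) ⊤ (h (U : Scheme.{u}) U.ι i)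
  have h2 : U.ι ''ᵁ ⊤ = U := U.ι_image_top
  rw [← h2]
  exact h1

end Groth.Lead.CountHocolim
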