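import Groth.Agent.Lead.CountHom.Main
import Groth.Agent.L29.DCoh.Gen.PCHocolim

/-!
Countable homotopy colimits of perfect objects.
-/

set_option autoImplicit false
set_option linter.style.haveILetI false
set_option backward.defeqAttrib.useBackward true
set_option backward.isDefEq.respectTransparency false
set_option backward.isDefEq.respectTransparency.types false

universe u

open CategoryTheory CategoryTheory.Limits CategoryTheory.Pretriangulated AlgebraicGeometry ZeroObject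

attribute [local instance] HasDerivedCategory.standard

noncomputable section

namespace Groth.Lead.CountHocolim

open Groth.L29.DC Groth.L29.DC.Gen Groth.L29.Thick

variable {X : Scheme.{u}}

/-- maps into a countable sum are finite sums -/
theorem exists_fin [CompactSpace X] [QuasiSeparatedSpace X] {C : DCoh.D X} (hC : DCoh.IsPerfect C)
    (E : ℕ → DCoh.D X) [HasCoproduct E] (hE : ∀ n, DCoh.IsQCohD (E n)) (φ : C ⟶ ∐ E) :
    ∃ (s : Finset ℕ) (g : ∀ n, C ⟶ E n), (∀ n, n ∉ s → g n = 0) ∧ φ = ∑ n ∈ s, g n ≫ Sigma.ι E n := by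
  classical
  let E' : ULift.{u} ℕ → DCoh.D X := fun n => E n.down
  haveI : HasColimitsOfShape (Discrete (ULift.{u} ℕ)) (DCoh.D X) := by
    haveI : HasCoproducts.{u} (DCoh.D X) := hasCoproducts_D X
    infer_instance
  let a : (∐ E) ⟶ ∐ E' := Sigma.desc fun n => Sigma.ι E' ⟨n⟩
  let b : (∐ E') ⟶ ∐ E := Sigma.desc fun n => Sigma.ι E n.down
  have hab : a ≫ b = 𝟙 _ := Sigma.hom_ext _ _ fun n => by simp [a, b]
  obtain ⟨s, g, hg⟩ := cpt_of_perfect hC E' (fun n => hE n.down) (φ ≫ a)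
  refine ⟨s.image ULift.down, fun n => if (⟨n⟩ : ULift.{u} ℕ) ∈ s then g ⟨n⟩ else 0, fun n hn => if_neg fun h =>
    hn (Finset.mem_image.2 ⟨_, h, rfl⟩), ?_⟩
  rw [Finset.sum_image fun x _ y _ h => ULift.ext x y h,
    ← Category.comp_id φ, ← hab, ← Category.assoc, hg, Preadditive.sum_comp]
  refine Finset.sum_congr rfl fun n hn => ?_
  simp only [hn, if_true, Category.assoc]
  simp [b]

/-- `1 - shift` is injective on maps out of perfect objects -/
theorem sub_shift_injective [CompactSpace X] [QuasiSeparatedSpace X] {C : DCoh.D X} (hC : DCoh.IsPerfect C)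
    (E : ℕ → DCoh.D X) (f : ∀ n, E n ⟶ E (n + 1)) [HasCoproduct E] (hE : ∀ n, DCoh.IsQCohD (E n))
    (φ : C ⟶ ∐ E) (h : φ ≫ (𝟙 _ - DerLim.shiftMap E f) = 0) : φ = 0 := by
  classical
  obtain ⟨s, g, hg0, rfl⟩ := exists_fin hC E hE φ
  let p : ∀ n, (∐ E) ⟶ E n := fun n => Sigma.desc fun j => if hjn : j = n then eqToHom (by rw [hjn]) else 0
  have hp : ∀ n, (∑ k ∈ s, g k ≫ Sigma.ι E k) ≫ p n = g n := by
    intro n
    rw [Preadditive.sum_comp, Finset.sum_eq_single n]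
    · simp [p]
    · intro k _ hk
      simp [p, hk]
    · intro hn
      simp [hg0 n hn]
  have h0 : (𝟙 _ - DerLim.shiftMap E f) ≫ p 0 = p 0 := Sigma.hom_ext _ _ fun j => by
    rcases eq_or_ne j 0 with rfl | hj
    · simp [p, DerLim.shiftMap]
    · simp [p, DerLim.shiftMap, hj]
  have h1 : ∀ n, (𝟙 _ - DerLim.shiftMap E f) ≫ p (n + 1) = p (n + 1) - p n ≫ f n := fun n => Sigma.hom_ext _ _ fun j => by
    rcases eq_or_ne j (n + 1) with rfl | hj
    · simp [p, DerLim.shiftMap]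
    · rcases eq_or_ne j n with rfl | hj'
      · simp [p, DerLim.shiftMap]
      · simp [p, DerLim.shiftMap, hj, hj']
  have hx : ∀ n, g n = 0 := by
    intro n
    induction n with
    | zero => rw [← hp 0, ← h0, reassoc_of% h, zero_comp]
    | succ n ih =>
      have h2 : (∑ k ∈ s, g k ≫ Sigma.ι E k) ≫ (𝟙 _ - DerLim.shiftMap E f) ≫ p (n + 1) = 0 := by
        rw [reassoc_of% h, zero_comp]
      rwa [h1, Preadditive.comp_sub, hp, ← Category.assoc, hp, ih, zero_comp, sub_zero] at h2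
  simp [hx]

/-- maps to a homotopy colimit come from some stage -/
theorem factors_stage [CompactSpace X] [QuasiSeparatedSpace X] {C : DCoh.D X} (hC : DCoh.IsPerfect C)
    (E : ℕ → DCoh.D X) (f : ∀ n, E n ⟶ E (n + 1)) [HasCoproduct E] (hE : ∀ n, DCoh.IsQCohD (E n))
    {L : DCoh.D X} {l : ∀ n, E n ⟶ L} (hh : DerLim.IsHocolim E f L l) (φ : C ⟶ L) :
    (∀ n, f n ≫ l (n + 1) = l n) ∧ ∃ (N : ℕ) (ψ : C ⟶ E N), ψ ≫ l N = φ := by
  classical
  obtain ⟨c, hT⟩ := hh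
  have hfl : ∀ n, f n ≫ l (n + 1) = l n := fun n => by
    have h0 := comp_distTriang_mor_zero₁₂ _ hT
    dsimp at h0
    have h1 := congrArg (Sigma.ι E n ≫ ·) h0
    simp [DerLim.shiftMap, sub_eq_zero] at h1
    exact h1.symm
  refine ⟨hfl, ?_⟩
  let adj := (shiftEquiv (DCoh.D X) (1 : ℤ)).symm.toAdjunction
  have hφc : φ ≫ c = 0 := by
    have h1 : (adj.homEquiv _ _).symm (φ ≫ c) = 0 := by
      refine sub_shift_injective (perfect_shift hC (-1)) E f hE _ ?_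
      refine (adj.homEquiv_naturality_right_symm (φ ≫ c) (𝟙 (∐ E) - DerLim.shiftMap E f)).symm.trans ?_
      have h2 := comp_distTriang_mor_zero₂₃ _ (rot_of_distTriang _ hT)
      dsimp [Triangle.rotate] at h2
      rw [Preadditive.comp_neg, neg_eq_zero] at h2
      change (adj.homEquiv _ _).symm ((φ ≫ c) ≫ (shiftFunctor (DCoh.D X) (1 : ℤ)).map _) = 0
      rw [Category.assoc, h2, comp_zero]
      simp [Adjunction.homEquiv_counit]
    have h3 := congrArg (adj.homEquiv _ _) h1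
    rw [Equiv.apply_symm_apply] at h3
    rw [h3]
    simp [Adjunction.homEquiv_unit]
  obtain ⟨χ, hχ⟩ := Triangle.coyoneda_exact₃ _ hT φ hφc
  dsimp at χ hχ
  obtain ⟨s, g, -, rfl⟩ := exists_fin hC E hE χ
  rw [hχ]
  clear hχ
  induction s using Finset.induction_on with
  | empty => exact ⟨0, 0, by simp⟩
  | @insert a t ha ih =>
    obtain ⟨N, ψ, hψ⟩ := ih
    have push : ∀ (N : ℕ) (ψ : C ⟶ E N) (N' : ℕ), N ≤ N' → ∃ ψ' : C ⟶ E N', ψ' ≫ l N' = ψ ≫ l N := fun N ψ N' h => by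
      induction N', h using Nat.le_induction with
      | base => exact ⟨ψ, rfl⟩
      | succ N' _ ih =>
        obtain ⟨ψ', hψ'⟩ := ih
        exact ⟨ψ' ≫ f N', by rw [Category.assoc, hfl, hψ']⟩
    obtain ⟨ψ₁, h₁⟩ := push N ψ (max N a) (le_max_left _ _)
    obtain ⟨ψ₂, h₂⟩ := push a (g a) (max N a) (le_max_right _ _)
    refine ⟨_, ψ₂ + ψ₁, ?_⟩
    rw [Preadditive.add_comp, h₁, h₂, hψ, Finset.sum_insert ha]
    simp [Preadditive.add_comp]

section Build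

variable (G K : DCoh.D X)

/-- a perfect object over `K` together with the classes which are to be killed -/
structure Stage : Type (u + 1) where
  obj : DCoh.D X
  perf : DCoh.IsPerfect obj
  map : obj ⟶ K
  hist : ℕ → ℕ → Σ m : ℤ, {ψ : G⟦m⟧ ⟶ obj // ψ ≫ map = 0}

variable {G K} (hG : DCoh.IsPerfect G)
  (hc : ∀ (E : DCoh.D X), DCoh.IsPerfect E → ∀ m : ℤ, Countable (G⟦m⟧ ⟶ E))
  (hK : ∀ m : ℤ, Countable (G⟦m⟧ ⟶ K))

include hc in
theorem exists_enum {E : DCoh.D X} (hE : DCoh.IsPerfect E) (i : E ⟶ K) :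
    ∃ e : ℕ → Σ m : ℤ, {ψ : G⟦m⟧ ⟶ E // ψ ≫ i = 0}, Function.Surjective e := by
  haveI : ∀ m : ℤ, Countable {ψ : G⟦m⟧ ⟶ E // ψ ≫ i = 0} := fun m => by
    haveI := hc E hE m
    infer_instance
  haveI : Nonempty (Σ m : ℤ, {ψ : G⟦m⟧ ⟶ E // ψ ≫ i = 0}) := ⟨⟨0, 0, zero_comp⟩⟩
  exact exists_surjective_nat _

include hG hc in
theorem exists_next (n : ℕ) (S : Stage G K) (m : ℤ) (g : G⟦m⟧ ⟶ K) :
    ∃ (T : Stage G K) (f : S.obj ⟶ T.obj), f ≫ T.map = S.map ∧
      (∃ y : G⟦m⟧ ⟶ T.obj, y ≫ T.map = g) ∧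
      (∀ a k, a ≠ n + 1 → ∀ (L : DCoh.D X) (l : T.obj ⟶ L),
        (T.hist a k).2.1 ≫ l = 0 → (S.hist a k).2.1 ≫ f ≫ l = 0) ∧
      (S.hist (Nat.unpair n).1 (Nat.unpair n).2).2.1 ≫ f = 0 ∧
      Function.Surjective (T.hist (n + 1)) := by
  let σ := S.hist (Nat.unpair n).1 (Nat.unpair n).2
  let E₁ := S.obj ⊞ G⟦m⟧
  have hE₁ : DCoh.IsPerfect E₁ :=
    (perfect_two_out_of_three (binaryBiproductTriangle_distinguished S.obj (G⟦m⟧))).2.1 S.perf (perfect_shift hG m)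
  let i₁ : E₁ ⟶ K := biprod.desc S.map g
  obtain ⟨E₂, p, d, hT⟩ := distinguished_cocone_triangle (σ.2.1 ≫ (biprod.inl : S.obj ⟶ E₁))
  obtain ⟨i₂, hi₂⟩ := Triangle.yoneda_exact₂ _ hT i₁ (by
    change (σ.2.1 ≫ biprod.inl) ≫ biprod.desc S.map g = 0
    rw [Category.assoc, biprod.inl_desc, σ.2.2])
  have hE₂ : DCoh.IsPerfect E₂ := (perfect_two_out_of_three hT).1 (perfect_shift hG σ.1) hE₁
  obtain ⟨e, he⟩ := exists_enum hc hE₂ i₂
  dsimp at i₂ hi₂
  have hf : (biprod.inl ≫ p) ≫ i₂ = S.map := by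
    rw [Category.assoc, ← hi₂]
    simp [i₁]
  refine ⟨⟨E₂, hE₂, i₂, fun a k => if a = n + 1 then e k else
      ⟨(S.hist a k).1, (S.hist a k).2.1 ≫ biprod.inl ≫ p, ?_⟩⟩, biprod.inl ≫ p, hf,
    ⟨biprod.inr ≫ p, ?_⟩, fun a k ha L l h => ?_, ?_, ?_⟩
  · rw [Category.assoc, hf]
    exact (S.hist a k).2.2
  · rw [Category.assoc, ← hi₂]
    simp [i₁]
  · have key : ∀ (x y : Σ m : ℤ, {ψ : G⟦m⟧ ⟶ E₂ // ψ ≫ i₂ = 0}), x = y → x.2.1 ≫ l = 0 → y.2.1 ≫ l = 0 := by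
      rintro x _ rfl hx
      exact hx
    simpa using key _ _ (if_neg ha) h
  · have h0 := comp_distTriang_mor_zero₁₂ _ hT
    simpa using h0
  · intro x
    obtain ⟨k, hk⟩ := he x
    exact ⟨k, by simp [hk]⟩

include hG hc hK in
/-- a countable object is a homotopy colimit of perfect objects as seen by `G` -/
theorem exists_seq : ∃ (E : ℕ → DCoh.D X) (f : ∀ n, E n ⟶ E (n + 1)) (i : ∀ n, E n ⟶ K),
    (∀ n, DCoh.IsPerfect (E n)) ∧ (∀ n, f n ≫ i (n + 1) = i n) ∧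
    (∀ (m : ℤ) (g : G⟦m⟧ ⟶ K), ∃ (N : ℕ) (y : G⟦m⟧ ⟶ E N), y ≫ i N = g) ∧
    (∀ (L : DCoh.D X) (l : ∀ n, E n ⟶ L), (∀ n, f n ≫ l (n + 1) = l n) →
      ∀ (m : ℤ) (N : ℕ) (ψ : G⟦m⟧ ⟶ E N), ψ ≫ i N = 0 → ψ ≫ l N = 0) := by
  haveI : ∀ m : ℤ, Countable (G⟦m⟧ ⟶ K) := hK
  haveI : Nonempty (Σ m : ℤ, G⟦m⟧ ⟶ K) := ⟨⟨0, 0⟩⟩
  obtain ⟨gen, hgen⟩ := exists_surjective_nat (Σ m : ℤ, G⟦m⟧ ⟶ K)
  have h0 : DCoh.IsPerfect (0 : DCoh.D X) := EvalMain.isPerfect_of_isZero (isZero_zero _)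
  obtain ⟨e₀, he₀⟩ := exists_enum hc h0 (0 : (0 : DCoh.D X) ⟶ K)
  choose next fn hmap hlift hpush hkill henum using
    fun n (S : Stage G K) => exists_next hG hc n S (gen n).1 (gen n).2
  let S : ℕ → Stage G K := fun n => Nat.rec ⟨0, h0, 0, fun _ k => e₀ k⟩ next n
  refine ⟨fun n => (S n).obj, fun n => fn n (S n), fun n => (S n).map, fun n => (S n).perf,
    fun n => hmap n (S n), fun m g => ?_, fun L l hl m N ψ hψ => ?_⟩
  · obtain ⟨j, hj⟩ := hgen ⟨m, g⟩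
    obtain ⟨y, hy⟩ := hlift j (S j)
    obtain ⟨rfl, h2⟩ := Sigma.mk.inj_iff.1 (show (⟨(gen j).1, (gen j).2⟩ : Σ m : ℤ, G⟦m⟧ ⟶ K) = ⟨m, g⟩ from hj)
    exact ⟨j + 1, y, hy.trans (eq_of_heq h2)⟩
  · have hs : Function.Surjective ((S N).hist N) := by
      cases N with
      | zero => exact he₀
      | succ N => exact henum N (S N)
    obtain ⟨k, hk⟩ := hs ⟨m, ψ, hψ⟩
    let n := Nat.pair N k
    have hn : N ≤ n := Nat.left_le_pair N k
    have h1 : ((S n).hist N k).2.1 ≫ l n = 0 := by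
      rw [← hl n, ← Category.assoc]
      have := hkill n (S n)
      rw [Nat.unpair_pair] at this
      rw [this, zero_comp]
    have h2 : ∀ j, N ≤ j → j ≤ n → ((S j).hist N k).2.1 ≫ l j = 0 → ((S N).hist N k).2.1 ≫ l N = 0 := by
      intro j hj
      induction j, hj using Nat.le_induction with
      | base => exact fun _ h => h
      | succ j hj ih =>
        intro hjn h
        refine ih (by omega) ?_
        rw [← hl j]
        exact hpush j (S j) N k (by omega) L (l (j + 1)) h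
    have h3 := h2 n hn le_rfl h1
    rw [hk] at h3
    exact h3

end Build

/-- homotopy colimit presentation from countability of maps out of a generator -/
theorem exists_hocolim [CompactSpace X] [QuasiSeparatedSpace X] [HasColimitsOfShape (Discrete ℕ) (DCoh.D X)]
    {G K : DCoh.D X} (hG : DCoh.IsPerfect G)
    (hgen : ∀ F : DCoh.D X, DCoh.IsQCohD F → Ortho G F → IsZero F) (hKq : DCoh.IsQCohD K)
    (hc : ∀ (E : DCoh.D X), DCoh.IsPerfect E → ∀ m : ℤ, Countable (G⟦m⟧ ⟶ E))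
    (hK : ∀ m : ℤ, Countable (G⟦m⟧ ⟶ K)) :
    ∃ (E : ℕ → DCoh.D X) (f : ∀ n, E n ⟶ E (n + 1)) (i : ∀ n, E n ⟶ K),
      (∀ n, DCoh.IsPerfect (E n)) ∧ DerLim.IsHocolim E f K i := by
  obtain ⟨E, f, i, hE, hfi, hsurj, hinj⟩ := exists_seq hG hc hK
  obtain ⟨L, l, φ, hL, hlφ⟩ := exists_hocolim_map hfi
  have hEq : ∀ n, DCoh.IsQCohD (E n) := fun n => PCQCoh.isQCohD_of_perfect (hE n)
  have hfl := (factors_stage hG E f hEq hL 0).1
  have hinj' : ∀ (m : ℤ) (ξ : G⟦m⟧ ⟶ L), ξ ≫ φ = 0 → ξ = 0 := fun m ξ h => by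
    obtain ⟨-, N, ψ, rfl⟩ := factors_stage (perfect_shift hG m) E f hEq hL ξ
    exact hinj L l hfl m N ψ (by rw [← hlφ N, ← Category.assoc, h])
  have hsurj' : ∀ (m : ℤ) (g : G⟦m⟧ ⟶ K), ∃ ξ : G⟦m⟧ ⟶ L, ξ ≫ φ = g := fun m g => by
    obtain ⟨N, y, rfl⟩ := hsurj m g
    exact ⟨y ≫ l N, by rw [Category.assoc, hlφ]⟩
  have hLq : DCoh.IsQCohD L := by
    obtain ⟨c, hT⟩ := id hL
    have hP : DCoh.IsQCohD (∐ E) := by
      haveI : HasCoproducts.{u} (DCoh.D X) := hasCoproducts_D X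
      refine isQCohD_of_iso ?_ (QCohColim.isQCohD_coproduct (fun n : ULift.{u} ℕ => E n.down) fun n => hEq n.down)
      exact Sigma.whiskerEquiv (f := fun n : ULift.{u} ℕ => E n.down) (g := E) Equiv.ulift.{u} fun n => Iso.refl _
    exact isQCohD_third _ hT hP hP
  obtain ⟨C, p, d, hT⟩ := distinguished_cocone_triangle φ
  have hC : IsZero C := hgen C (isQCohD_third _ hT hLq hKq) fun m ξ => by
    let a := (shiftFunctorAdd' (DCoh.D X) m (-1) (m - 1) (by omega)).app G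
    let adj := (shiftEquiv (DCoh.D X) (1 : ℤ)).symm.toAdjunction
    have h1 : (ξ ≫ d) ≫ φ⟦(1 : ℤ)⟧' = 0 := by
      have := comp_distTriang_mor_zero₃₁ _ hT
      dsimp at this
      rw [Category.assoc, this, comp_zero]
    have h2 : ξ ≫ d = 0 := by
      apply (adj.homEquiv _ _).symm.injective
      have h3 := hinj' (m - 1) (a.hom ≫ (adj.homEquiv _ _).symm (ξ ≫ d)) (by
        have h4 : (adj.homEquiv _ _).symm (ξ ≫ d) ≫ φ = 0 := by
          rw [← adj.homEquiv_naturality_right_symm]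
          refine Eq.trans (congrArg (adj.homEquiv _ _).symm h1) ?_
          simp [Adjunction.homEquiv_counit]
        rw [Category.assoc, h4, comp_zero])
      refine ((cancel_epi a.hom).1 (h3.trans comp_zero.symm)).trans ?_
      simp [Adjunction.homEquiv_counit]
    obtain ⟨η, hη⟩ := Triangle.coyoneda_exact₃ _ hT ξ h2
    obtain ⟨ζ, hζ⟩ := hsurj' m η
    have h5 := comp_distTriang_mor_zero₁₂ _ hT
    dsimp at h5 hη
    rw [hη, ← hζ, Category.assoc, h5, comp_zero]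
  haveI : IsIso φ := (Triangle.isZero₃_iff_isIso₁ _ hT).1 hC
  obtain ⟨c, hT₀⟩ := hL
  refine ⟨E, f, i, hE, inv φ ≫ c, isomorphic_distinguished _ hT₀ _ ?_⟩
  refine Triangle.isoMk _ _ (Iso.refl _) (Iso.refl _) (asIso φ).symm ?_ ?_ ?_
  · simp
  · refine Sigma.hom_ext _ _ fun n => ?_
    simp [← hlφ n]
  · simp

end Groth.Lead.CountHocolim
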